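import Mathlib

set_option autoImplicit false
open TensorProduct Function

namespace Groth.Agent.H5.TorBC

section G
variable {A X Y C N : Type*} [CommRing A] [AddCommGroup X] [Module A X] [AddCommGroup Y] [Module A Y]
  [AddCommGroup C] [Module A C] [AddCommGroup N] [Module A N]

/-- If `coker f` is flat then `ker (N ⊗ f) = N ⊗ ker f`. -/
theorem mem_range_ker_of_flat_coker (f : X →ₗ[A] Y) (g : Y →ₗ[A] C) (hg : Surjective g)
    (hfg : Exact f g) [Module.Flat A C] (x : N ⊗[A] X) (hx : f.lTensor N x = 0) :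
    x ∈ LinearMap.range ((LinearMap.ker f).subtype.lTensor N) := by
  set j := (LinearMap.range f).subtype with hj
  set f' := f.rangeRestrict with hf'
  have hjf : j ∘ₗ f' = f := by ext; rfl
  have hexj : Exact j g := by
    intro y
    rw [hfg y]
    simp [j]
  have hinj : Injective (j.lTensor N) :=
    LinearMap.lTensor_injective_of_exact_of_flat g hg j (Submodule.subtype_injective _) hexj N
  have h1 : f'.lTensor N x = 0 := by
    apply hinj
    rw [map_zero, ← LinearMap.comp_apply, ← LinearMap.lTensor_comp, hjf, hx]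
  have hex' : Exact (LinearMap.ker f).subtype f' := by
    intro y
    simp only [Submodule.coe_subtype, Subtype.range_coe_subtype, Set.mem_ofPred_eq,
      LinearMap.mem_ker]
    rw [hf', Subtype.ext_iff]
    simp
  exact (lTensor_exact N hex' f.surjective_rangeRestrict x).mp h1

end G

section claim4
variable {R M L F N : Type*} [CommRing R] (I : Ideal R) [AddCommGroup M] [Module R M]
  [AddCommGroup L] [Module R L] [AddCommGroup F] [Module R F]
  [AddCommGroup N] [Module R N] [Module (R ⧸ I) N] [IsScalarTower R (R ⧸ I) N]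

theorem exists_one_tmul (x : (R ⧸ I) ⊗[R] L) : ∃ l : L, x = 1 ⊗ₜ l := by
  induction x using TensorProduct.induction_on with
  | zero => exact ⟨0, by simp⟩
  | tmul r l =>
    obtain ⟨r, rfl⟩ := Ideal.Quotient.mk_surjective r
    refine ⟨r • l, ?_⟩
    rw [TensorProduct.tmul_smul, TensorProduct.smul_tmul', ← Algebra.algebraMap_eq_smul_one]
    rfl
  | add a b ha hb =>
    obtain ⟨l₁, rfl⟩ := ha
    obtain ⟨l₂, rfl⟩ := hb
    exact ⟨l₁ + l₂, by rw [TensorProduct.tmul_add]⟩

theorem one_tmul_eq_zero_iff (f : F) :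
    ((1 : R ⧸ I) ⊗ₜ[R] f = 0) ↔ f ∈ I • (⊤ : Submodule R F) := by
  rw [← (TensorProduct.quotTensorEquivQuotSMul F I).map_eq_zero_iff,
    TensorProduct.quotTensorEquivQuotSMul_mk_one_tmul, Submodule.Quotient.mk_eq_zero]

theorem claim4 (ι : L →ₗ[R] F) (π : F →ₗ[R] M) (hex : Exact ι π) (hπ : Surjective π)
    [Module.Flat (R ⧸ I) ((R ⧸ I) ⊗[R] M)]
    (z : N ⊗[R] L) (hz : ι.lTensor N z = 0) :
    z ∈ LinearMap.range ((Submodule.comap ι (I • (⊤ : Submodule R F))).subtype.lTensor N) := by
  let ιb : (R ⧸ I) ⊗[R] L →ₗ[R ⧸ I] (R ⧸ I) ⊗[R] F := ι.baseChange (R ⧸ I)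
  let πb : (R ⧸ I) ⊗[R] F →ₗ[R ⧸ I] (R ⧸ I) ⊗[R] M := π.baseChange (R ⧸ I)
  have hπb : Surjective πb := LinearMap.lTensor_surjective (R ⧸ I) hπ
  have hexb : Exact ιb πb := lTensor_exact (R ⧸ I) hex hπ
  let eL := AlgebraTensorModule.cancelBaseChange R (R ⧸ I) (R ⧸ I) N L
  let eF := AlgebraTensorModule.cancelBaseChange R (R ⧸ I) (R ⧸ I) N F
  have hnat : ∀ t, eF (ιb.lTensor N t) = ι.lTensor N (eL t) := by
    intro t
    induction t using TensorProduct.induction_on with
    | zero => simp
    | add a b ha hb => simp only [map_add, ha, hb]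
    | tmul n x =>
      induction x using TensorProduct.induction_on with
      | zero => simp
      | add a b ha hb => simp only [tmul_add, map_add, ha, hb]
      | tmul r l => simp [eF, eL, ιb]
  set zh := eL.symm z with hzh_def
  have hzh : ιb.lTensor N zh = 0 := by
    apply eF.injective
    rw [hnat, map_zero, hzh_def, LinearEquiv.apply_symm_apply, hz]
  obtain ⟨t, ht⟩ := mem_range_ker_of_flat_coker ιb πb hπb hexb zh hzh
  have key : ∀ t : N ⊗[R ⧸ I] (LinearMap.ker ιb),
      eL ((LinearMap.ker ιb).subtype.lTensor N t) ∈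
        LinearMap.range ((Submodule.comap ι (I • (⊤ : Submodule R F))).subtype.lTensor N) := by
    intro t
    induction t using TensorProduct.induction_on with
    | zero => simp
    | add a b ha hb => simp only [map_add]; exact Submodule.add_mem _ ha hb
    | tmul n k =>
      obtain ⟨l, hl⟩ := exists_one_tmul I (k : (R ⧸ I) ⊗[R] L)
      have hk : ιb (k : (R ⧸ I) ⊗[R] L) = 0 := k.2
      have hl0 : ι l ∈ I • (⊤ : Submodule R F) := by
        rw [← one_tmul_eq_zero_iff]
        rw [hl] at hk
        simpa [ιb] using hk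
      refine ⟨n ⊗ₜ ⟨l, hl0⟩, ?_⟩
      simp [hl, eL]
  have := key t
  rw [ht, hzh_def, LinearEquiv.apply_symm_apply] at this
  exact this

end claim4

end Groth.Agent.H5.TorBC
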