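import Mathlib
import Groth.Agent.Lib.Helper5.TorBC.A

set_option autoImplicit false
open TensorProduct Function

namespace Groth.Agent.H5.TorBC

section chase
variable {R R' M F L : Type*} [CommRing R] [CommRing R'] [Algebra R R'] (I : Ideal R)
  [AddCommGroup M] [Module R M] [AddCommGroup F] [Module R F] [AddCommGroup L] [Module R L]

/-- `u : I' → R'` as an `R`-linear map. -/
abbrev uMap : ↥(I.map (algebraMap R R')) →ₗ[R] R' :=
  (I.map (algebraMap R R')).subtype.restrictScalars R

/-- `q : R' → R'/I'` as an `R`-linear map. -/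
abbrev qMap : R' →ₗ[R] R' ⧸ I.map (algebraMap R R') :=
  (Ideal.Quotient.mkₐ R (I.map (algebraMap R R'))).toLinearMap

/-- `σ_X : I ⊗ X → X`. -/
abbrev sig (X : Type*) [AddCommGroup X] [Module R X] : ↥I ⊗[R] X →ₗ[R] X :=
  (TensorProduct.lid R X).toLinearMap ∘ₗ I.subtype.rTensor X

theorem uMap_injective : Injective (uMap (R' := R') I) := Subtype.val_injective

theorem qMap_surjective : Surjective (qMap (R' := R') I) :=
  Ideal.Quotient.mkₐ_surjective R _

theorem exact_u_q : Exact (uMap (R' := R') I) (qMap (R' := R') I) := by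
  intro x
  simp only [qMap, uMap, AlgHom.toLinearMap_apply, Ideal.Quotient.mkₐ_eq_mk,
    Ideal.Quotient.eq_zero_iff_mem]
  constructor
  · intro h; exact ⟨⟨x, h⟩, rfl⟩
  · rintro ⟨y, rfl⟩; exact y.2

theorem mem_range_sig (f : F) (hf : f ∈ I • (⊤ : Submodule R F)) :
    ∃ t₀ : ↥I ⊗[R] F, sig I F t₀ = f := by
  refine Submodule.smul_induction_on hf ?_ ?_
  · intro a ha x _
    exact ⟨⟨a, ha⟩ ⊗ₜ x, by simp [sig]⟩
  · rintro x y ⟨t₁, rfl⟩ ⟨t₂, rfl⟩
    exact ⟨t₁ + t₂, map_add _ _ _⟩

theorem u_rTensor_smul_idealMap (r' : R') (t₀ : ↥I ⊗[R] F) :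
    (uMap (R' := R') I).rTensor F (r' • (Algebra.idealMap R' I).rTensor F t₀) =
      r' ⊗ₜ sig I F t₀ := by
  induction t₀ using TensorProduct.induction_on with
  | zero => simp
  | add a b ha hb => simp only [map_add, smul_add, ha, hb, tmul_add]
  | tmul a f =>
    simp only [LinearMap.rTensor_tmul, TensorProduct.smul_tmul', sig, LinearMap.coe_comp,
      LinearEquiv.coe_coe, comp_apply, Submodule.subtype_apply, lid_tmul]
    rw [TensorProduct.tmul_smul, TensorProduct.smul_tmul']
    congr 1
    simp [Algebra.smul_def, mul_comm]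

theorem lTensor_smul' (π : F →ₗ[R] M) (r' : R') (t : ↥(I.map (algebraMap R R')) ⊗[R] F) :
    π.lTensor _ (r' • t) = r' • π.lTensor _ t := by
  induction t using TensorProduct.induction_on with
  | zero => simp
  | add a b ha hb => simp only [map_add, smul_add, ha, hb]
  | tmul a f => simp [TensorProduct.smul_tmul']

theorem sig_natural (π : F →ₗ[R] M) (t₀ : ↥I ⊗[R] F) :
    π (sig I F t₀) = sig I M (π.lTensor _ t₀) := by
  induction t₀ using TensorProduct.induction_on with
  | zero => simp
  | add a b ha hb => simp only [map_add, ha, hb]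
  | tmul a f => simp [sig]

theorem idealMap_natural (π : F →ₗ[R] M) (t₀ : ↥I ⊗[R] F) :
    π.lTensor _ ((Algebra.idealMap R' I).rTensor F t₀) =
      (Algebra.idealMap R' I).rTensor M (π.lTensor _ t₀) := by
  induction t₀ using TensorProduct.induction_on with
  | zero => simp
  | add a b ha hb => simp only [map_add, ha, hb]
  | tmul a f => simp

theorem tor_surj_aux [Module.Flat R F] (ι : L →ₗ[R] F) (π : F →ₗ[R] M) (hex : Exact ι π)
    (hπ : Surjective π) [Module.Flat (R ⧸ I) ((R ⧸ I) ⊗[R] M)]
    (y : ↥(I.map (algebraMap R R')) ⊗[R] M)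
    (hy : (uMap (R' := R') I).rTensor M y = 0) :
    y ∈ Submodule.span R'
      ((Algebra.idealMap R' I).rTensor M '' {k | I.subtype.rTensor M k = 0}) := by
  set S := Submodule.span R'
      ((Algebra.idealMap R' I).rTensor M '' {k | I.subtype.rTensor M k = 0}) with hS
  -- Step 1
  obtain ⟨yt, rfl⟩ := LinearMap.lTensor_surjective (↥(I.map (algebraMap R R'))) hπ y
  -- Step 2
  have hb : π.lTensor R' ((uMap (R' := R') I).rTensor F yt) = 0 := by
    rw [← LinearMap.comp_apply, LinearMap.lTensor_comp_rTensor, ← LinearMap.rTensor_comp_lTensor,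
      LinearMap.comp_apply, hy]
  obtain ⟨z, hz⟩ := (lTensor_exact R' hex hπ _).mp hb
  -- Step 4
  have hqu : qMap (R' := R') I ∘ₗ uMap (R' := R') I = 0 := by
    ext x; exact (exact_u_q (R' := R') I).apply_apply_eq_zero x
  have hzb : ι.lTensor (R' ⧸ I.map (algebraMap R R')) ((qMap (R' := R') I).rTensor L z) = 0 := by
    rw [← LinearMap.comp_apply, LinearMap.lTensor_comp_rTensor, ← LinearMap.rTensor_comp_lTensor,
      LinearMap.comp_apply, hz, ← LinearMap.comp_apply, ← LinearMap.rTensor_comp, hqu]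
    simp
  obtain ⟨wb, hwb⟩ := claim4 I ι π hex hπ _ hzb
  obtain ⟨w, rfl⟩ := LinearMap.rTensor_surjective
    (↥(Submodule.comap ι (I • (⊤ : Submodule R F)))) (qMap_surjective (R' := R') I) wb
  have h5 : (qMap (R' := R') I).rTensor L
      (z - (Submodule.comap ι (I • (⊤ : Submodule R F))).subtype.lTensor R' w) = 0 := by
    rw [map_sub, ← hwb, ← LinearMap.comp_apply, ← LinearMap.comp_apply,
      LinearMap.rTensor_comp_lTensor, LinearMap.lTensor_comp_rTensor, sub_self]
  obtain ⟨v, hv⟩ := (rTensor_exact L (exact_u_q (R' := R') I) (qMap_surjective I) _).mp h5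
  -- Step 6
  have h6 : ∀ w : R' ⊗[R] ↥(Submodule.comap ι (I • (⊤ : Submodule R F))),
      ∃ t : ↥(I.map (algebraMap R R')) ⊗[R] F,
        (uMap (R' := R') I).rTensor F t =
          (ι ∘ₗ (Submodule.comap ι (I • (⊤ : Submodule R F))).subtype).lTensor R' w ∧
        π.lTensor _ t ∈ S := by
    intro w
    induction w using TensorProduct.induction_on with
    | zero => exact ⟨0, by simp, by simp⟩
    | add a b ha hb =>
      obtain ⟨t₁, h₁, h₁'⟩ := ha
      obtain ⟨t₂, h₂, h₂'⟩ := hb
      exact ⟨t₁ + t₂, by rw [map_add, map_add, h₁, h₂], by rw [map_add]; exact S.add_mem h₁' h₂'⟩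
    | tmul r' l₀ =>
      obtain ⟨t₀, ht₀⟩ := mem_range_sig I (ι l₀.1) l₀.2
      refine ⟨r' • (Algebra.idealMap R' I).rTensor F t₀, ?_, ?_⟩
      · rw [u_rTensor_smul_idealMap, ht₀]; simp
      · rw [lTensor_smul', idealMap_natural]
        refine S.smul_mem _ (Submodule.subset_span ⟨_, ?_, rfl⟩)
        show I.subtype.rTensor M (π.lTensor _ t₀) = 0
        apply (TensorProduct.lid R M).injective
        have := sig_natural I π t₀
        rw [ht₀] at this
        rw [map_zero]
        exact this.symm.trans (hex.apply_apply_eq_zero _)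
  obtain ⟨t, ht, htS⟩ := h6 w
  -- Step 7
  have h7 : yt = ι.lTensor _ v + t := by
    apply Module.Flat.rTensor_preserves_injective_linearMap (M := F) (uMap (R' := R') I)
      (uMap_injective I)
    rw [map_add, ht, ← LinearMap.comp_apply, LinearMap.rTensor_comp_lTensor,
      ← LinearMap.lTensor_comp_rTensor, LinearMap.comp_apply, hv, map_sub, ← hz,
      LinearMap.lTensor_comp, LinearMap.comp_apply]
    abel
  rw [h7, map_add, ← LinearMap.comp_apply, ← LinearMap.lTensor_comp,
    hex.linearMap_comp_eq_zero]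
  simpa using htS

/-- **Tor surjectivity** (Stacks 00ML, elementwise): if `M/IM` is flat over `R/I`, then
`ker (I' ⊗ M → R' ⊗ M)` is generated over `R'` by the image of `ker (I ⊗ M → M)`. -/
theorem tor_surj [Module.Flat (R ⧸ I) ((R ⧸ I) ⊗[R] M)]
    (y : ↥(I.map (algebraMap R R')) ⊗[R] M)
    (hy : (uMap (R' := R') I).rTensor M y = 0) :
    y ∈ Submodule.span R'
      ((Algebra.idealMap R' I).rTensor M '' {k | I.subtype.rTensor M k = 0}) :=
  tor_surj_aux I (F := M →₀ R) (L := LinearMap.ker (Finsupp.linearCombination R (id : M → M)))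
    (LinearMap.ker (Finsupp.linearCombination R (id : M → M))).subtype
    (Finsupp.linearCombination R (id : M → M))
    (LinearMap.exact_subtype_ker_map (Finsupp.linearCombination R (id : M → M)))
    (Finsupp.linearCombination_id_surjective R M) y hy

end chase

end Groth.Agent.H5.TorBC
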