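import Mathlib
import Groth.Agent.Lib.Helper5.TorBC.B
import Groth.Agent.Lib.Helper1.FlatLocus

set_option autoImplicit false
open TensorProduct Function

namespace Groth.Agent.H5.TorBC

section Lell
variable {A B : Type*} [CommRing A] [CommRing B] [Algebra A B] (W : Submonoid B)
  {X X' : Type*} [AddCommGroup X] [Module B X] [Module A X] [IsScalarTower A B X]
  [AddCommGroup X'] [Module B X'] [Module A X'] [IsScalarTower A B X']
  (g : X →ₗ[B] X') [IsLocalizedModule W g] (J : Ideal A)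

/-- `N ⊗[A/J] (A/J ⊗[A] Z) ≃ Z ⊗[A] N`. -/
noncomputable def tauEquiv (Z : Type*) [AddCommGroup Z] [Module A Z] (N : Type*) [AddCommGroup N]
    [Module A N] [Module (A ⧸ J) N] [IsScalarTower A (A ⧸ J) N] :
    N ⊗[A ⧸ J] ((A ⧸ J) ⊗[A] Z) ≃ₗ[A] Z ⊗[A] N :=
  (AlgebraTensorModule.cancelBaseChange A (A ⧸ J) (A ⧸ J) N Z).restrictScalars A ≪≫ₗ
    TensorProduct.comm A N Z

theorem tauEquiv_natural (Z : Type*) [AddCommGroup Z] [Module A Z] {N₁ N₂ : Type*}
    [AddCommGroup N₁] [Module A N₁] [Module (A ⧸ J) N₁] [IsScalarTower A (A ⧸ J) N₁]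
    [AddCommGroup N₂] [Module A N₂] [Module (A ⧸ J) N₂] [IsScalarTower A (A ⧸ J) N₂]
    (φ : N₁ →ₗ[A ⧸ J] N₂) (t : N₁ ⊗[A ⧸ J] ((A ⧸ J) ⊗[A] Z)) :
    tauEquiv J Z N₂ (φ.rTensor _ t) = (φ.restrictScalars A).lTensor Z (tauEquiv J Z N₁ t) := by
  induction t using TensorProduct.induction_on with
  | zero => simp
  | add a b ha hb => simp only [map_add, ha, hb]
  | tmul n x =>
    induction x using TensorProduct.induction_on with
    | zero => simp
    | add a b ha hb => simp only [tmul_add, map_add, ha, hb]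
    | tmul r z => simp [tauEquiv]

theorem rTensor_injective_iff (Z : Type*) [AddCommGroup Z] [Module A Z] {N₁ N₂ : Type*}
    [AddCommGroup N₁] [Module A N₁] [Module (A ⧸ J) N₁] [IsScalarTower A (A ⧸ J) N₁]
    [AddCommGroup N₂] [Module A N₂] [Module (A ⧸ J) N₂] [IsScalarTower A (A ⧸ J) N₂]
    (φ : N₁ →ₗ[A ⧸ J] N₂) :
    Injective (φ.rTensor ((A ⧸ J) ⊗[A] Z)) ↔ Injective ((φ.restrictScalars A).lTensor Z) := by
  have h : (tauEquiv J Z N₂) ∘ (φ.rTensor ((A ⧸ J) ⊗[A] Z)) =
      ((φ.restrictScalars A).lTensor Z) ∘ (tauEquiv J Z N₁) := by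
    funext t; exact tauEquiv_natural J Z φ t
  rw [← (tauEquiv J Z N₂).injective.of_comp_iff, h]
  exact Function.Injective.of_comp_iff' _ (tauEquiv J Z N₁).bijective

include W g in
theorem flat_quot_of_isLocalizedModule [Module.Flat (A ⧸ J) ((A ⧸ J) ⊗[A] X)] :
    Module.Flat (A ⧸ J) ((A ⧸ J) ⊗[A] X') := by
  rw [Module.Flat.iff_rTensor_injective']
  intro 𝔞
  rw [rTensor_injective_iff]
  have hX : Injective ((𝔞.subtype.restrictScalars A).lTensor X) := by
    rw [← rTensor_injective_iff]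
    exact Module.Flat.rTensor_preserves_injective_linearMap 𝔞.subtype Subtype.val_injective
  let G₁ := AlgebraTensorModule.rTensor A 𝔞 g
  let G₂ := AlgebraTensorModule.rTensor A (A ⧸ J) g
  have hΦ : IsLocalizedModule.map W G₁ G₂
      (AlgebraTensorModule.lTensor B X (𝔞.subtype.restrictScalars A)) =
      AlgebraTensorModule.lTensor B X' (𝔞.subtype.restrictScalars A) :=
    IsLocalizedModule.map_lTensor B W (𝔞.subtype.restrictScalars A) g
  have := IsLocalizedModule.map_injective W G₁ G₂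
    (AlgebraTensorModule.lTensor B X (𝔞.subtype.restrictScalars A)) hX
  rw [hΦ] at this
  exact this

end Lell

section Cmain
variable {R R' T : Type*} [CommRing R] [CommRing R'] [CommRing T] [Algebra R R'] [Algebra R' T]
  (W : Submonoid T) (I : Ideal R)
  {M X M' : Type*} [AddCommGroup M] [Module R M]
  [AddCommGroup X] [Module T X] [Module R' X] [Module R X] [IsScalarTower R' T X]
  [IsScalarTower R R' X]
  [AddCommGroup M'] [Module T M'] [Module R' M'] [IsScalarTower R' T M']
  (j : M →ₗ[R] X) (hj : IsBaseChange R' j)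
  (g : X →ₗ[T] M') [IsLocalizedModule W g]

/-- `I' ⊗[R] M ≃ X ⊗[R'] I'` for a base change `X` of `M`. -/
noncomputable def Psi :
    ↥(I.map (algebraMap R R')) ⊗[R] M ≃ₗ[R'] X ⊗[R'] ↥(I.map (algebraMap R R')) :=
  (AlgebraTensorModule.cancelBaseChange R R' R' ↥(I.map (algebraMap R R')) M).symm ≪≫ₗ
    (LinearEquiv.lTensor ↥(I.map (algebraMap R R')) hj.equiv) ≪≫ₗ TensorProduct.comm R' _ X

theorem Psi_tmul (i' : ↥(I.map (algebraMap R R'))) (m : M) :
    Psi I j hj (i' ⊗ₜ m) = j m ⊗ₜ i' := by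
  simp [Psi, IsBaseChange.equiv_tmul]

theorem rid_lTensor_Psi (y : ↥(I.map (algebraMap R R')) ⊗[R] M) :
    TensorProduct.rid R' X (((I.map (algebraMap R R')).subtype.lTensor X) (Psi I j hj y)) =
      hj.equiv ((uMap (R' := R') I).rTensor M y) := by
  induction y using TensorProduct.induction_on with
  | zero => simp
  | add a b ha hb => simp only [map_add, ha, hb]
  | tmul i' m => simp [Psi_tmul, IsBaseChange.equiv_tmul]

include W in
theorem lTensor_injective_of_tor_zero [Module.Flat (R ⧸ I) ((R ⧸ I) ⊗[R] M)]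
    (h3 : ∀ k : ↥I ⊗[R] M, I.subtype.rTensor M k = 0 →
      AlgebraTensorModule.rTensor R' ↥(I.map (algebraMap R R')) g
        (Psi I j hj ((Algebra.idealMap R' I).rTensor M k)) = 0) :
    Injective ((I.map (algebraMap R R')).subtype.lTensor M') := by
  refine Groth.Agent.H1.FlatLocus.lTensor_injective_of_forall_exists_smul W g _ ?_
  intro x hx
  -- transport to `I' ⊗[R] M`
  obtain ⟨y, rfl⟩ := (Psi I j hj).surjective x
  have hy : (uMap (R' := R') I).rTensor M y = 0 := by
    apply hj.equiv.injective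
    rw [← rid_lTensor_Psi, hx, map_zero, map_zero]
  have hmem := tor_surj I y hy
  -- span induction
  have key : ∀ y ∈ Submodule.span R'
      ((Algebra.idealMap R' I).rTensor M '' {k | I.subtype.rTensor M k = 0}),
      ∃ s ∈ W, s • (Psi I j hj y) = 0 := by
    intro y hy
    induction hy using Submodule.span_induction with
    | mem y hy =>
      obtain ⟨k, hk, rfl⟩ := hy
      have h0 := h3 k hk
      obtain ⟨s, hs⟩ := (IsLocalizedModule.eq_zero_iff W
        (AlgebraTensorModule.rTensor R' ↥(I.map (algebraMap R R')) g)).mp h0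
      exact ⟨s.1, s.2, hs⟩
    | zero => exact ⟨1, W.one_mem, by simp⟩
    | add a b _ _ ha hb =>
      obtain ⟨s, hs, hsa⟩ := ha
      obtain ⟨t, ht, htb⟩ := hb
      refine ⟨s * t, W.mul_mem hs ht, ?_⟩
      rw [map_add, smul_add, mul_smul s t ((Psi I j hj) b), htb, smul_zero, mul_comm, mul_smul,
        hsa, smul_zero, add_zero]
    | smul r a _ ha =>
      obtain ⟨s, hs, hsa⟩ := ha
      refine ⟨s, hs, ?_⟩
      rw [map_smul, smul_comm, hsa, smul_zero]
  exact key y hmem

end Cmain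

end Groth.Agent.H5.TorBC
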