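import Mathlib
import Groth.Agent.Lib.Helper5.TorBC.C
import Groth.Agent.Lib.Helper1.LocalCriterion

set_option autoImplicit false
open TensorProduct Function

namespace Groth.Agent.H5.TorBC

section D
variable {R R' : Type*} [CommRing R] [CommRing R'] [Algebra R R'] (I : Ideal R)
  {M X : Type*} [AddCommGroup M] [Module R M]
  [AddCommGroup X] [Module R' X] [Module R X] [IsScalarTower R R' X]
  (j : M →ₗ[R] X) (hj : IsBaseChange R' j)

include hj in
theorem flat_quot_baseChange [Module.Flat (R ⧸ I) ((R ⧸ I) ⊗[R] M)] :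
    Module.Flat (R' ⧸ I.map (algebraMap R R')) ((R' ⧸ I.map (algebraMap R R')) ⊗[R'] X) := by
  let Rb' := R' ⧸ I.map (algebraMap R R')
  let e₁ : Rb' ⊗[R'] X ≃ₗ[Rb'] Rb' ⊗[R'] (R' ⊗[R] M) :=
    AlgebraTensorModule.congr (LinearEquiv.refl Rb' Rb') hj.equiv.symm
  let e₂ : Rb' ⊗[R'] (R' ⊗[R] M) ≃ₗ[Rb'] Rb' ⊗[R] M :=
    AlgebraTensorModule.cancelBaseChange R R' Rb' Rb' M
  let e₃ : Rb' ⊗[R ⧸ I] ((R ⧸ I) ⊗[R] M) ≃ₗ[Rb'] Rb' ⊗[R] M :=
    AlgebraTensorModule.cancelBaseChange R (R ⧸ I) Rb' Rb' M
  exact Module.Flat.of_linearEquiv (e₁ ≪≫ₗ e₂ ≪≫ₗ e₃.symm)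

end D

section main
universe u

theorem main_abstract (R S R' S' T : Type u) [CommRing R] [CommRing S] [CommRing R'] [CommRing S']
    [CommRing T]
    [IsLocalRing R] [IsLocalRing R'] [IsLocalRing S'] [IsNoetherianRing R'] [IsNoetherianRing S']
    [Algebra R S] [Algebra R R'] [Algebra S S'] [Algebra R' S'] [Algebra R S']
    [IsScalarTower R S S'] [IsScalarTower R R' S']
    [IsLocalHom (algebraMap R R')] [IsLocalHom (algebraMap R' S')]
    [Algebra S T] [Algebra R' T] [Algebra R T] [IsScalarTower R S T] [IsScalarTower R R' T]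
    [Algebra T S'] [IsScalarTower S T S'] [IsScalarTower R' T S'] [Algebra.IsPushout R R' S T]
    (W : Submonoid T) [IsLocalization W S']
    (I : Ideal R) (hI : I ≠ ⊤)
    (M : Type u) [AddCommGroup M] [Module S M] [Module R M] [IsScalarTower R S M]
    [Module.Finite S M]
    (M' : Type u) [AddCommGroup M'] [Module S' M'] [Module R' M'] [IsScalarTower R' S' M']
    [Module S M'] [IsScalarTower S S' M'] [Module R M'] [IsScalarTower R R' M']
    [IsScalarTower R S M'] [Module T M'] [IsScalarTower T S' M']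
    (f : M →ₗ[S] M') (hf : IsBaseChange S' f)
    (h2 : Module.Flat (R ⧸ I) ((R ⧸ I) ⊗[R] M))
    (h3 : ∀ x : ↥I ⊗[R] M, (Submodule.subtype I).rTensor M x = 0 →
      (TensorProduct.mapOfCompatibleSMul R' R R ↥(I.map (algebraMap R R')) M')
        ((TensorProduct.map (Algebra.idealMap R' I) (f.restrictScalars R)) x) = 0) :
    Module.Flat R' M' := by
  haveI hSTM' : IsScalarTower S T M' := IsScalarTower.of_algebraMap_smul fun s m => by
    rw [← algebraMap_smul S' (algebraMap S T s) m, ← IsScalarTower.algebraMap_apply,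
      algebraMap_smul]
  haveI hR'TM' : IsScalarTower R' T M' := IsScalarTower.of_algebraMap_smul fun s m => by
    rw [← algebraMap_smul S' (algebraMap R' T s) m, ← IsScalarTower.algebraMap_apply,
      algebraMap_smul]
  let jS : M →ₗ[S] T ⊗[S] M := TensorProduct.mk S T M 1
  have hjS : IsBaseChange T jS := TensorProduct.isBaseChange S M T
  let g : T ⊗[S] M →ₗ[T] M' := hjS.lift f
  have hgf : (g.restrictScalars S) ∘ₗ jS = f := hjS.lift_comp f
  have hgBC : IsBaseChange S' g := IsBaseChange.of_comp hjS (by rw [hgf]; exact hf)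
  haveI : IsLocalizedModule W g := (isLocalizedModule_iff_isBaseChange W S' g).mpr hgBC
  let j : M →ₗ[R] T ⊗[S] M := jS.restrictScalars R
  have hj : IsBaseChange R' j :=
    IsBaseChange.of_equiv (Algebra.IsPushout.cancelBaseChange R R' S T M).symm
      (fun m => by simp [j, jS])
  have hgj : ∀ m, g (j m) = f m := fun m => LinearMap.congr_fun hgf m
  -- translate `h3`
  have hid : ∀ k : ↥I ⊗[R] M,
      AlgebraTensorModule.rTensor R' ↥(I.map (algebraMap R R')) g
        (Psi I j hj ((Algebra.idealMap R' I).rTensor M k)) =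
      TensorProduct.comm R' _ _
        ((TensorProduct.mapOfCompatibleSMul R' R R ↥(I.map (algebraMap R R')) M')
          ((TensorProduct.map (Algebra.idealMap R' I) (f.restrictScalars R)) k)) := by
    intro k
    induction k using TensorProduct.induction_on with
    | zero => simp
    | add a b ha hb => simp only [map_add, ha, hb]
    | tmul a m => simp [Psi_tmul, hgj]
  have hC : Injective ((I.map (algebraMap R R')).subtype.lTensor M') := by
    refine lTensor_injective_of_tor_zero W I j hj g ?_
    intro k hk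
    rw [hid, h3 k hk, map_zero]
  haveI hD : Module.Flat (R' ⧸ I.map (algebraMap R R'))
      ((R' ⧸ I.map (algebraMap R R')) ⊗[R'] M') := by
    haveI := flat_quot_baseChange I j hj
    exact flat_quot_of_isLocalizedModule W g (I.map (algebraMap R R'))
  haveI : Module.Finite S' M' := Module.Finite.equiv hf.equiv
  have hI' : I.map (algebraMap R R') ≠ ⊤ := by
    intro h
    have h1 : I.map (algebraMap R R') ≤ IsLocalRing.maximalIdeal R' :=
      le_trans (Ideal.map_mono (IsLocalRing.le_maximalIdeal hI))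
        (((IsLocalRing.local_hom_TFAE (algebraMap R R')).out 0 2).mp ‹_›)
    rw [h] at h1
    exact (IsLocalRing.maximalIdeal.isMaximal R').ne_top (top_le_iff.mp h1)
  exact Groth.Agent.H1.flat_of_isLocalHom_of_rTensor_injective (R := R') (S := S') (M := M') _ hI'
    ((LinearMap.lTensor_inj_iff_rTensor_inj _ _).mp hC)

end main

end Groth.Agent.H5.TorBC
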